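/-
Kummer sequence on the small étale site.
-/
import Groth.Prelude.Def_EtGm
import Groth.Prelude.Def_Dix
import Groth.Agent.Lib.EtSite.Basic
import Groth.Agent.H88.MuLocal
import Mathlib.CategoryTheory.Sites.LocallyBijective
import Mathlib.CategoryTheory.Sites.EpiMono
import Mathlib.RingTheory.Etale.StandardEtale
import Mathlib.FieldTheory.IsAlgClosed.AlgebraicClosure

set_option autoImplicit false

universe u

open Polynomial AlgebraicGeometry CategoryTheory CategoryTheory.Limits Opposite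

namespace Groth.Agent.Lib.Kummer

open Groth.Agent.H88

variable {A : Type u} [CommRing A] {n : ℕ}

/-- The standard étale pair of `X ^ n - a`. -/
noncomputable def pair (hn : 0 < n) (hu : IsUnit (n : A)) (a : Aˣ) : StandardEtalePair A where
  f := X ^ n - C (a : A)
  monic_f := monic_X_pow_sub_C _ hn.ne'
  g := 1
  cond := by
    obtain ⟨c, hc⟩ := hu
    refine ⟨C ((↑a⁻¹ : A) * ↑c⁻¹) * X, -(C ((↑a⁻¹ : A) * ↑c⁻¹) * C (n : A)), 0, ?_⟩
    rw [pow_zero, derivative_sub, derivative_C, sub_zero, derivative_X_pow]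
    have h1 : C ((↑a⁻¹ : A) * ↑c⁻¹) * C (n : A) * C (a : A) = (1 : A[X]) := by
      rw [← map_mul, ← map_mul, ← hc, mul_assoc (↑a⁻¹ : A), Units.inv_mul, mul_one, Units.inv_mul,
        map_one]
    have h2 : X ^ (n - 1) * X = (X ^ n : A[X]) := by rw [← pow_succ, Nat.sub_add_cancel hn]
    linear_combination (C ((↑a⁻¹ : A) * ↑c⁻¹) * C (n : A)) * h2 + h1

lemma X_pow_eq (hn : 0 < n) (hu : IsUnit (n : A)) (a : Aˣ) :
    (pair hn hu a).X ^ n = algebraMap A (pair hn hu a).Ring a := by
  have h0 : aeval (pair hn hu a).X (X ^ n - C (a : A)) = 0 :=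
    (StandardEtalePair.hasMap_X (P := pair hn hu a)).1
  rwa [map_sub, map_pow, aeval_X, aeval_C, sub_eq_zero] at h0

lemma comap_surjective (hn : 0 < n) (hu : IsUnit (n : A)) (a : Aˣ) :
    Function.Surjective (PrimeSpectrum.comap (algebraMap A (pair hn hu a).Ring)) := by
  intro p
  let K := AlgebraicClosure p.asIdeal.ResidueField
  obtain ⟨x, hx⟩ := IsAlgClosed.exists_pow_nat_eq (algebraMap A K a) hn
  let φ := (pair hn hu a).lift x ⟨by simp [pair, hx], by simp [pair]⟩
  refine ⟨⟨RingHom.ker φ.toRingHom, RingHom.ker_isPrime _⟩, PrimeSpectrum.ext (Ideal.ext fun r => ?_)⟩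
  change φ (algebraMap A _ r) = 0 ↔ r ∈ p.asIdeal
  rw [AlgHom.commutes, IsScalarTower.algebraMap_apply A p.asIdeal.ResidueField K,
    map_eq_zero, Ideal.algebraMap_residueField_eq_zero]

theorem isUnit_natCast_section {X : Scheme.{u}} (hX : Dix.InvertibleOn X n) (T : X.Etale)
    (U : T.left.Opens) : IsUnit (n : Γ(T.left, U)) := by
  refine T.left.toRingedSpace.isUnit_of_isUnit_germ U _ fun y hy => ?_
  show IsUnit (T.left.presheaf.germ U y hy (n : Γ(T.left, U)))
  rw [map_natCast, ← IsLocalRing.residue_ne_zero_iff_isUnit, map_natCast]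
  intro h0
  apply hX (T.hom.base y)
  apply (T.hom.residueFieldMap y).hom.injective
  rw [map_zero, map_natCast]
  exact h0

/-- Units have `n`-th roots étale locally. -/
theorem isLocallySurjective_powMap {X : Scheme.{u}} (hn : 0 < n) (hX : Dix.InvertibleOn X n) :
    Sheaf.IsLocallySurjective (EtCoh.powMap X n) := by
  refine ⟨fun {T} u => (Groth.Agent.Lib.EtSite.Basic.mem_topology_iff _).2 fun t => ?_⟩
  obtain ⟨_, ⟨U, (hU : IsAffineOpen U), rfl⟩, htU, -⟩ := T.left.isBasis_affineOpens.exists_subset_of_mem_open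
    (Set.mem_univ t) isOpen_univ
  let a : Γ(T.left, U)ˣ := Units.map (T.left.presheaf.map (homOfLE le_top : U ⟶ ⊤).op).hom.toMonoidHom
    (Additive.toMul (ULift.down u : Additive (Γ(T.left, ⊤))ˣ))
  let P := pair hn (isUnit_natCast_section hX T U) a
  have : Etale (Spec.map (CommRingCat.ofHom (algebraMap Γ(T.left, U) P.Ring))) :=
    (HasRingHomProperty.Spec_iff (P := @Etale)).2 (RingHom.etale_algebraMap.2 inferInstance)
  have : Etale T.hom := T.prop
  let g : Spec (CommRingCat.of P.Ring) ⟶ T.left :=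
    Spec.map (CommRingCat.ofHom (algebraMap Γ(T.left, U) P.Ring)) ≫ hU.fromSpec
  have : Etale g := inferInstanceAs
    (Etale (Spec.map (CommRingCat.ofHom (algebraMap Γ(T.left, U) P.Ring)) ≫ hU.fromSpec))
  let V : X.Etale := Scheme.Etale.mk (g ≫ T.hom)
  let w : V ⟶ T := MorphismProperty.Over.homMk (g : V.left ⟶ T.left) rfl
  have htr : t ∈ Set.range hU.fromSpec.base := by rw [hU.range_fromSpec]; exact htU
  obtain ⟨p, hp⟩ := htr
  obtain ⟨v, hv⟩ := comap_surjective hn (isUnit_natCast_section hX T U) a p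
  let η : Γ(V.left, ⊤) := (Scheme.ΓSpecIso (CommRingCat.of P.Ring)).inv P.X
  have hη : η ^ n = w.left.appTop (MuLocal.val u) := by
    show ((Scheme.ΓSpecIso (CommRingCat.of P.Ring)).inv P.X) ^ n = g.appTop (MuLocal.val u)
    rw [← map_pow, X_pow_eq]
    apply (Scheme.ΓSpecIso (CommRingCat.of P.Ring)).commRingCatIsoToRingEquiv.injective
    simp only [g, Scheme.Hom.comp_appTop, CommRingCat.comp_apply]
    change (Scheme.ΓSpecIso _).hom ((Scheme.ΓSpecIso _).inv _) = (Scheme.ΓSpecIso _).hom _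
    rw [Iso.inv_hom_id_apply, ← CommRingCat.comp_apply (g := (Scheme.ΓSpecIso _).hom),
      Scheme.ΓSpecIso_naturality, CommRingCat.comp_apply,
      show hU.fromSpec.appTop = T.left.presheaf.map (homOfLE le_top : U ⟶ ⊤).op ≫
        (Scheme.ΓSpecIso Γ(T.left, U)).inv from by
          rw [Scheme.Hom.appTop, IsAffineOpen.fromSpec_app_of_le hU ⊤ le_top]
          simp only [← Category.assoc]
          exact (congrArg (_ ≫ ·) ((Spec Γ(T.left, U)).presheaf.map_id _)).trans (Category.comp_id _),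
      CommRingCat.comp_apply]
    erw [Iso.inv_hom_id_apply]
    rfl
  have hηu : IsUnit η := by
    refine (isUnit_pow_iff hn.ne').mp (hη ▸ ?_)
    exact (Additive.toMul (ULift.down u : Additive (Γ(T.left, ⊤))ˣ)).isUnit.map w.left.appTop.hom
  refine ⟨V, w, ⟨ULift.up (Additive.ofMul hηu.unit), ?_⟩, v, ?_⟩
  · apply MuLocal.val_injective
    exact (congrArg MuLocal.val (MuLocal.powMap_app _ _)).trans
      ((MuLocal.val_nsmul _ _).trans (hη.trans (MuLocal.val_map _ _).symm))
  · show g.base v = t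
    rw [← hp, ← hv]
    rfl

theorem powMap_comp_eq_zero (X : Scheme.{u}) :
    EtCoh.muι X n ≫ EtCoh.powMap X n = 0 :=
  kernel.condition _

theorem kummer_shortExact {X : Scheme.{u}} (hn : 0 < n) (hX : Dix.InvertibleOn X n) :
    (ShortComplex.mk (EtCoh.muι X n) (EtCoh.powMap X n) (powMap_comp_eq_zero X)).ShortExact := by
  have : Epi (EtCoh.powMap X n) :=
    (Sheaf.isLocallySurjective_iff_epi' _ _).1 (isLocallySurjective_powMap hn hX)
  have : Mono (EtCoh.muι X n) := inferInstanceAs (Mono (kernel.ι _))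
  exact { exact := ShortComplex.exact_of_f_is_kernel _ (kernelIsKernel (EtCoh.powMap X n)) }

theorem HF_map_powMap (X : Scheme.{u}) (i : ℕ) (ξ : (EtCoh.HF X i).obj (EtCoh.Gm X)) :
    (EtCoh.HF X i).map (EtCoh.powMap X n) ξ = n • ξ := by
  let φ : Abelian.Ext _ (EtCoh.Gm X) i := ξ
  show φ.comp (Abelian.Ext.mk₀ (EtCoh.powMap X n)) (add_zero i) = n • φ
  unfold EtCoh.powMap
  induction n with
  | zero => simp
  | succ n ih => rw [succ_nsmul, Abelian.Ext.mk₀_add, Abelian.Ext.comp_add, ih, Abelian.Ext.comp_mk₀_id, succ_nsmul]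

end Groth.Agent.Lib.Kummer
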