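import Groth.Prelude.Def_EtRam
import Mathlib.RingTheory.Unramified.Field
import Mathlib.RingTheory.Artinian.Module
import Mathlib.RingTheory.Kaehler.Basic
import Mathlib.NumberTheory.RamificationInertia.Ramification

/-!
Adjoining roots `x_j ^ n_j = c_j` of units and of one uniformiser gives a tame extension.
-/

universe u v

namespace Groth.Agent.Lib.Kummer.Tame

open IsLocalRing

/-- An algebra generated by elements with an invertible-index root equation is unramified. -/
theorem formallyUnramified_of_roots {k D : Type u} [CommRing k] [CommRing D] [Algebra k D]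
    {σ : Type v} (y : σ → D) (c : σ → k) (n : σ → ℕ) (hgen : Algebra.adjoin k (Set.range y) = ⊤)
    (h : ∀ j, y j = 0 ∨ (1 ≤ n j ∧ IsUnit (n j : k) ∧ IsUnit (c j) ∧ y j ^ n j = algebraMap k D (c j))) :
    Algebra.FormallyUnramified k D := by
  have hd : ∀ z ∈ Algebra.adjoin k (Set.range y), KaehlerDifferential.D k D z = 0 := by
    intro z hz
    induction hz using Algebra.adjoin_induction with
    | mem w hw =>
      obtain ⟨j, rfl⟩ := hw
      rcases h j with h0 | ⟨h1, hn, hc, hy⟩
      · rw [h0, map_zero]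
      · have hu : IsUnit ((n j : D) * y j ^ (n j - 1)) := by
          refine IsUnit.mul ?_ (IsUnit.pow _ ((isUnit_pow_iff (by omega : n j ≠ 0)).1 ?_))
          · simpa using hn.map (algebraMap k D)
          · exact hy ▸ hc.map _
        have := congrArg (KaehlerDifferential.D k D) hy
        rw [Derivation.leibniz_pow, Derivation.map_algebraMap, ← Nat.cast_smul_eq_nsmul D,
          smul_smul] at this
        exact (hu.smul_eq_zero).1 this
    | algebraMap a => exact Derivation.map_algebraMap _ _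
    | add a b _ _ ha hb => rw [map_add, ha, hb, add_zero]
    | mul a b _ _ ha hb => rw [Derivation.leibniz, ha, hb, smul_zero, smul_zero, add_zero]
  constructor
  have htop : (⊤ : Submodule D (Ω[D⁄k])) = ⊥ := by
    rw [← KaehlerDifferential.span_range_derivation, Submodule.span_eq_bot]
    rintro _ ⟨z, rfl⟩
    exact hd z (hgen ▸ Algebra.mem_top)
  exact (Submodule.subsingleton_iff D).1 (subsingleton_of_bot_eq_top htop.symm)

variable {R : Type u} [CommRing R] [IsLocalRing R]

section Fibre

variable {C : Type u} [CommRing C] [Algebra R C] {σ : Type v} (x : σ → C) (c : σ → R) (n : σ → ℕ)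
  (i₀ : σ) (hgen : Algebra.adjoin R (Set.range x) = ⊤) (hn1 : ∀ j, 1 ≤ n j)
  (hnu : ∀ j, IsUnit (n j : R)) (hc : ∀ j, j ≠ i₀ → IsUnit (c j))
  (hx : ∀ j, x j ^ n j = algebraMap R C (c j))

/-- The root equations over the residue field. -/
theorem formallyUnramified_residue {D : Type u} [CommRing D] [Algebra R D]
    [Algebra (ResidueField R) D] [IsScalarTower R (ResidueField R) D] (f : C →ₐ[R] D)
    (hf : Function.Surjective f) (h0 : f (x i₀) = 0) (hgen : Algebra.adjoin R (Set.range x) = ⊤)
    (hn1 : ∀ j, 1 ≤ n j) (hnu : ∀ j, IsUnit (n j : R)) (hc : ∀ j, j ≠ i₀ → IsUnit (c j))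
    (hx : ∀ j, x j ^ n j = algebraMap R C (c j)) :
    Algebra.FormallyUnramified (ResidueField R) D := by
  refine formallyUnramified_of_roots (fun j => f (x j)) (fun j => residue R (c j)) n ?_ fun j => ?_
  · refine top_unique fun z _ => ?_
    obtain ⟨w, rfl⟩ := hf z
    have hle : Algebra.adjoin R (Set.range x) ≤
        ((Algebra.adjoin (ResidueField R) (Set.range fun j => f (x j))).restrictScalars R).comap f := by
      refine Algebra.adjoin_le ?_
      rintro _ ⟨j, rfl⟩
      exact Algebra.subset_adjoin ⟨j, rfl⟩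
    exact hle (hgen ▸ Algebra.mem_top : w ∈ Algebra.adjoin R (Set.range x))
  · rcases eq_or_ne j i₀ with rfl | hj
    · exact Or.inl h0
    · refine Or.inr ⟨hn1 j, by simpa using (hnu j).map (residue R), (hc j hj).map _, ?_⟩
      rw [← map_pow, hx, AlgHom.commutes, IsScalarTower.algebraMap_apply R (ResidueField R) D]
      rfl

include hgen hn1 hnu hc hx in
/-- Near a prime containing `x i₀`, that element generates the prime. -/
theorem exists_mul_mem [Module.Finite R C] (hπ : maximalIdeal R = Ideal.span {c i₀}) (q : Ideal C)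
    [q.IsPrime] (hq : x i₀ ∈ q) (a : C) (ha : a ∈ q) :
    ∃ s, s ∉ q ∧ s * a ∈ Ideal.span {x i₀} := by
  let D := C ⧸ Ideal.span {x i₀}
  let mk := Ideal.Quotient.mk (Ideal.span {x i₀})
  have hker : ∀ r ∈ maximalIdeal R, algebraMap R D r = 0 := by
    intro r hr
    rw [hπ, Ideal.mem_span_singleton'] at hr
    obtain ⟨s, rfl⟩ := hr
    rw [IsScalarTower.algebraMap_apply R C D, Ideal.Quotient.algebraMap_eq,
      Ideal.Quotient.eq_zero_iff_mem, map_mul, ← hx]
    exact Ideal.mul_mem_left _ _ (Ideal.pow_mem_of_mem _ (Ideal.mem_span_singleton_self _) _ (hn1 i₀))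
  let _ : Algebra (ResidueField R) D :=
    (Ideal.Quotient.lift (maximalIdeal R) (algebraMap R D) hker : ResidueField R →+* D).toAlgebra
  have : IsScalarTower R (ResidueField R) D := .of_algebraMap_eq fun r => rfl
  have : Module.Finite R D :=
    Module.Finite.of_surjective (Ideal.Quotient.mkₐ R (Ideal.span {x i₀})).toLinearMap
      Ideal.Quotient.mk_surjective
  have : Module.Finite (ResidueField R) D := Module.Finite.of_restrictScalars_finite R _ D
  have : Algebra.FormallyUnramified (ResidueField R) D :=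
    formallyUnramified_residue x c n i₀ (Ideal.Quotient.mkₐ R (Ideal.span {x i₀})) Ideal.Quotient.mk_surjective
      (Ideal.Quotient.eq_zero_iff_mem.2 (Ideal.subset_span rfl)) hgen hn1 hnu hc hx
  have : IsReduced D := Algebra.FormallyUnramified.isReduced_of_field (ResidueField R) D
  have : IsArtinianRing D := isArtinian_of_tower (ResidueField R) inferInstance
  have hqD : (q.map mk).IsPrime := Ideal.map_isPrime_of_surjective Ideal.Quotient.mk_surjective (by
    rw [Ideal.mk_ker, Ideal.span_singleton_le_iff_mem]; exact hq)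
  have hmax : ∀ m : Ideal D, m.IsPrime → m ≠ q.map mk → ¬ m ≤ q.map mk := fun m hm hne hle =>
    hne ((IsArtinianRing.isMaximal_of_isPrime m).eq_of_le hqD.ne_top hle)
  choose e he1 he2 using fun m : {m : Ideal D // m.IsPrime ∧ m ≠ q.map mk} =>
    SetLike.not_le_iff_exists.1 (hmax m.1 m.2.1 m.2.2)
  have : Finite {m : Ideal D // m.IsPrime ∧ m ≠ q.map mk} :=
    Finite.of_injective (β := PrimeSpectrum D) (fun m => ⟨m.1, m.2.1⟩)
      fun a b h => Subtype.ext (congrArg PrimeSpectrum.asIdeal h)
  have := Fintype.ofFinite {m : Ideal D // m.IsPrime ∧ m ≠ q.map mk}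
  obtain ⟨s, hs⟩ := Ideal.Quotient.mk_surjective (∏ m, e m)
  refine ⟨s, fun hs' => ?_, ?_⟩
  · have : (∏ m, e m) ∈ q.map mk := hs ▸ Ideal.mem_map_of_mem _ hs'
    obtain ⟨m, -, hm⟩ := (hqD.prod_mem_iff).1 this
    exact he2 m hm
  · rw [← Ideal.Quotient.eq_zero_iff_mem, map_mul, hs]
    refine IsNilpotent.eq_zero (nilpotent_iff_mem_prime.2 fun m hm => ?_)
    by_cases hmq : m = q.map mk
    · exact Ideal.mul_mem_left _ _ (hmq ▸ Ideal.mem_map_of_mem _ ha)
    · exact Ideal.mul_mem_right _ _
        (m.mem_of_dvd (Finset.dvd_prod_of_mem e (Finset.mem_univ ⟨m, hm, hmq⟩)) (he1 ⟨m, hm, hmq⟩))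

end Fibre

theorem exists_factor {C : Type u} [CommRing C] [IsDomain C] (ξ : C) (hξ0 : ξ ≠ 0) (q : Ideal C)
    [q.IsPrime] (step : ∀ a ∈ q, ∃ s, s ∉ q ∧ s * a ∈ Ideal.span {ξ}) :
    ∀ (N : ℕ) (a b w : C), w ∉ q → a * b = ξ ^ N * w →
      ∃ (m : ℕ) (s t : C), s ∉ q ∧ t ∉ q ∧ s * a = ξ ^ m * t := by
  intro N
  induction N with
  | zero =>
    intro a b w hw hab
    refine ⟨0, 1, a, fun h1 => hw (q.eq_top_iff_one.2 h1 ▸ Submodule.mem_top), fun ha => hw ?_,
      by simp⟩
    rw [pow_zero, one_mul] at hab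
    exact hab ▸ q.mul_mem_right b ha
  | succ N ih =>
    intro a b w hw hab
    by_cases ha : a ∈ q
    · obtain ⟨s, hs, hsa⟩ := step a ha
      obtain ⟨a₁, ha₁⟩ := Ideal.mem_span_singleton'.1 hsa
      have : a₁ * b = ξ ^ N * (s * w) := mul_left_cancel₀ hξ0 (by
        calc ξ * (a₁ * b) = a₁ * ξ * b := by ring
          _ = s * (a * b) := by rw [ha₁]; ring
          _ = ξ * (ξ ^ N * (s * w)) := by rw [hab]; ring)
      obtain ⟨m, s', t, hs', ht, he⟩ := ih a₁ b (s * w)
        (fun h => (Ideal.IsPrime.mem_or_mem inferInstance h).elim hs hw) this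
      refine ⟨m + 1, s' * s, t, fun h => (Ideal.IsPrime.mem_or_mem inferInstance h).elim hs' hs,
        ht, ?_⟩
      calc s' * s * a = s' * (s * a) := by ring
        _ = s' * a₁ * ξ := by rw [← ha₁]; ring
        _ = ξ ^ (m + 1) * t := by rw [he]; ring
    · exact ⟨0, 1, a, fun h1 => hw (q.eq_top_iff_one.2 h1 ▸ Submodule.mem_top), ha, by simp⟩

variable [IsDomain R] [IsNoetherianRing R] {L : Type u} [Field L] {g : R →+* L}

/-- Nonzero elements are powers of the uniformiser times units. -/
theorem exists_pow_mul_unit {π : R} (hπ0 : π ≠ 0) (hπ : maximalIdeal R = Ideal.span {π})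
    {r : R} (hr : r ≠ 0) : ∃ (m : ℕ) (u : R), IsUnit u ∧ r = π ^ m * u := by
  have hπm : π ∈ maximalIdeal R := hπ ▸ Ideal.subset_span rfl
  obtain ⟨m, u, hu, hru⟩ := WfDvdMonoid.max_power_factor' hr (x := π) hπm
  refine ⟨m, u, ?_, hru⟩
  by_contra hnu
  exact hu (Ideal.mem_span_singleton.1 (hπ ▸ (mem_maximalIdeal u).2 hnu))

/-- Adjoining roots of units and of the uniformiser gives a tame extension. -/
theorem isTamelyRamified {σ : Type v} [Finite σ] (hg : Function.Injective g) (π : R) (hπ0 : π ≠ 0)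
    (hπ : maximalIdeal R = Ideal.span {π}) (x : σ → L) (c : σ → R) (n : σ → ℕ) (i₀ : σ)
    (hn1 : ∀ j, 1 ≤ n j) (hnu : ∀ j, IsUnit (n j : R)) (hc : ∀ j, j ≠ i₀ → IsUnit (c j))
    (hci : c i₀ = π) (hx : ∀ j, x j ^ n j = g (c j))
    (hgen : Subfield.closure (Set.range g ∪ Set.range x) = ⊤) :
    EtRam.IsTamelyRamified R g := by
  intro V h
  let _ : Algebra R L := g.toAlgebra
  let C : Subalgebra R L := Algebra.adjoin R (Set.range x)
  have hxV : ∀ j, x j ∈ V := fun j => by
    refine (ValuationSubring.valuation_le_one_iff V _).1 ?_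
    refine (pow_le_one_iff (n := n j) (by have := hn1 j; omega)).1 ?_
    rw [← map_pow, hx, ValuationSubring.valuation_le_one_iff]
    exact h.1 _
  have hCV : ∀ a ∈ C, a ∈ V := by
    intro a ha
    induction ha using Algebra.adjoin_induction with
    | mem y hy => obtain ⟨j, rfl⟩ := hy; exact hxV j
    | algebraMap r => exact h.1 r
    | add y z _ _ hy hz => exact add_mem hy hz
    | mul y z _ _ hy hz => exact mul_mem hy hz
  let xC : σ → C := fun j => ⟨x j, Algebra.subset_adjoin ⟨j, rfl⟩⟩
  have hxC : ∀ j, xC j ^ n j = algebraMap R C (c j) := fun j => Subtype.ext (hx j)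
  have hgenC : Algebra.adjoin R (Set.range xC) = ⊤ := by
    apply Subalgebra.map_injective (f := C.val) Subtype.val_injective
    rw [AlgHom.map_adjoin, ← Set.range_comp, Algebra.map_top, Subalgebra.range_val]
    rfl
  have : Algebra.IsIntegral R C := ⟨fun z => by
    have hle : Algebra.adjoin R (Set.range xC) ≤ integralClosure R C := by
      refine Algebra.adjoin_le ?_
      rintro _ ⟨j, rfl⟩
      exact IsIntegral.of_pow (hn1 j) (hxC j ▸ isIntegral_algebraMap)
    exact hle (hgenC ▸ Algebra.mem_top)⟩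
  have : Algebra.FiniteType R C := ⟨(Subalgebra.fg_top _).2 (Subalgebra.fg_def.2
    ⟨Set.range x, Set.finite_range _, rfl⟩)⟩
  have : Module.Finite R C := Algebra.IsIntegral.finite
  let ι : C →+* V := (C.val.toRingHom).codRestrict V fun a => hCV a a.2
  let q : Ideal C := (maximalIdeal V).comap ι
  have : q.IsPrime := Ideal.IsPrime.comap _
  let v := V.valuation
  have hmemq : ∀ a : C, a ∈ q ↔ v (a : L) < 1 := fun a =>
    ValuationSubring.valuation_lt_one_iff V (ι a)
  have hv1 : ∀ a : C, a ∉ q → v (a : L) = 1 := fun a ha =>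
    le_antisymm ((ValuationSubring.valuation_le_one_iff V _).2 (hCV a a.2))
      (not_lt.1 fun hlt => ha ((hmemq a).2 hlt))
  have hξq : xC i₀ ∈ q := by
    refine Ideal.IsPrime.mem_of_pow_mem inferInstance (n i₀) ?_
    rw [hxC, hci, hmemq]
    exact h.2 π (hπ ▸ Ideal.subset_span rfl)
  have hvξ : v (x i₀) < 1 := (hmemq _).1 hξq
  have hxi0 : x i₀ ≠ 0 := fun h0 => hπ0 (hg (by
    rw [← hci, ← hx, h0, zero_pow (by have := hn1 i₀; omega), map_zero]))
  have hvξ0 : v (x i₀) ≠ 0 := (Valuation.ne_zero_iff _).2 hxi0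
  have hqR : q.comap (algebraMap R C) = maximalIdeal R := by
    refine le_antisymm (IsLocalRing.le_maximalIdeal (Ideal.IsPrime.ne_top inferInstance)) fun r hr => ?_
    rw [Ideal.mem_comap, hmemq]
    exact h.2 r hr
  have step := exists_mul_mem xC c n i₀ hgenC hn1 hnu hc hxC (hci.symm ▸ hπ) q hξq
  have fac : ∀ a : C, a ≠ 0 → ∃ (m : ℕ) (s t : C), s ∉ q ∧ t ∉ q ∧ s * a = xC i₀ ^ m * t := by
    intro a ha
    obtain ⟨r, hr0, hra⟩ : ∃ r : R, r ≠ 0 ∧ algebraMap R C r ∈ Ideal.span {a} := by
      by_contra! hcon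
      refine Ideal.comap_ne_bot_of_integral_mem ha (Ideal.subset_span rfl : a ∈ Ideal.span {a})
        (Algebra.IsIntegral.isIntegral (R := R) a) (le_bot_iff.1 fun r hr => ?_)
      by_contra hne
      exact hcon r (fun h0 => hne (h0 ▸ Submodule.zero_mem _)) hr
    obtain ⟨m, u, hu, rfl⟩ := exists_pow_mul_unit hπ0 hπ hr0
    obtain ⟨b, hb⟩ := Ideal.mem_span_singleton'.1 hra
    refine exists_factor (xC i₀) (fun h0 => hxi0 (congrArg Subtype.val h0)) q step (n i₀ * m) a b
      (algebraMap R C u) (fun h' => Ideal.IsPrime.ne_top inferInstance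
        (q.eq_top_of_isUnit_mem h' (hu.map _))) ?_
    rw [mul_comm a b, hb, map_mul, map_pow, pow_mul, hxC, hci]
  have hfrac : ∀ y : L, y ≠ 0 → ∃ (m k : ℕ) (s t : C), s ∉ q ∧ t ∉ q ∧
      y * (x i₀ ^ k * (s : L)) = x i₀ ^ m * (t : L) := by
    intro y hy
    have hy' : y ∈ Subfield.closure (Set.range g ∪ Set.range x) := hgen ▸ Subfield.mem_top y
    obtain ⟨a, ha, b, hb, rfl⟩ := Subfield.mem_closure_iff.1 hy'
    have hle : Subring.closure (Set.range g ∪ Set.range x) ≤ C.toSubring := by
      refine Subring.closure_le.2 (Set.union_subset ?_ ?_)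
      · rintro _ ⟨r, rfl⟩; exact C.algebraMap_mem r
      · rintro _ ⟨j, rfl⟩; exact Algebra.subset_adjoin ⟨j, rfl⟩
    obtain ⟨ma, sa, ta, hsa, hta, hea⟩ := fac ⟨a, hle ha⟩
      (fun h0 => hy (by rw [show a = 0 from congrArg Subtype.val h0, zero_div]))
    have hb0 : b ≠ 0 := fun h0 => hy (by rw [h0, div_zero])
    obtain ⟨mb, sb, tb, hsb, htb, heb⟩ := fac ⟨b, hle hb⟩ (fun h0 => hb0 (congrArg Subtype.val h0))
    refine ⟨ma, mb, tb * sa, ta * sb,
      fun h' => (Ideal.IsPrime.mem_or_mem inferInstance h').elim htb hsa,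
      fun h' => (Ideal.IsPrime.mem_or_mem inferInstance h').elim hta hsb, ?_⟩
    have hea' : (sa : L) * a = x i₀ ^ ma * ta := congrArg Subtype.val hea
    have heb' : (sb : L) * b = x i₀ ^ mb * tb := congrArg Subtype.val heb
    push_cast
    rw [div_mul_eq_mul_div, div_eq_iff hb0]
    calc a * (x i₀ ^ mb * ((tb : L) * sa)) = ((sa : L) * a) * (x i₀ ^ mb * tb) := by ring
      _ = x i₀ ^ ma * ta * (sb * b) := by rw [hea', heb']
      _ = x i₀ ^ ma * (ta * sb) * b := by ring
  have hv : ∀ (y : L) (m k : ℕ) (s t : C), s ∉ q → t ∉ q →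
      y * (x i₀ ^ k * (s : L)) = x i₀ ^ m * (t : L) → v y * v (x i₀) ^ k = v (x i₀) ^ m := by
    intro y m k s t hs ht he
    have := congrArg v he
    simpa [map_mul, map_pow, hv1 s hs, hv1 t ht] using this
  let xi : V := ⟨x i₀, hxV i₀⟩
  have hmV : maximalIdeal V = Ideal.span {xi} := by
    refine le_antisymm (fun y hy => ?_) ((Ideal.span_singleton_le_iff_mem _).2
      ((ValuationSubring.valuation_lt_one_iff V xi).2 hvξ))
    have hy1 : v (y : L) < 1 := (ValuationSubring.valuation_lt_one_iff V y).1 hy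
    rcases eq_or_ne (y : L) 0 with hy0 | hy0
    · rw [show y = 0 from Subtype.ext hy0]; exact Submodule.zero_mem _
    · obtain ⟨m, k, s, t, hs, ht, he⟩ := hfrac y hy0
      have hmk := hv _ m k s t hs ht he
      have hle : v (y : L) ≤ v (x i₀) := by
        have hk : k < m := by
          by_contra! hle
          have : v (x i₀) ^ k ≤ v (x i₀) ^ m := pow_le_pow_of_le_one zero_le hvξ.le hle
          exact absurd (hmk ▸ this) (not_le.2 (mul_lt_of_lt_one_left (pow_pos (zero_lt_iff.2 hvξ0) _) hy1))
        refine le_of_mul_le_mul_right (hmk.le.trans ?_) (pow_pos (zero_lt_iff.2 hvξ0) k)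
        rw [← pow_succ']
        exact pow_le_pow_of_le_one zero_le hvξ.le hk
      rw [Ideal.mem_span_singleton']
      refine ⟨⟨(y : L) / x i₀, (ValuationSubring.valuation_le_one_iff V _).1 ?_⟩,
        Subtype.ext (div_mul_cancel₀ _ hxi0)⟩
      rw [map_div₀]
      exact (div_le_one₀ (zero_lt_iff.2 hvξ0)).2 hle
  letI : Algebra R V := (RingHom.codRestrict g V h.1).toAlgebra
  intro hloc
  refine ⟨?_, fun p hp hchar hdvd => ?_⟩
  · let f : C →ₐ[R] ResidueField V :=
      { (residue V).comp ι with commutes' := fun r => rfl }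
    have hf : Function.Surjective f := by
      have hfin : (f.toRingHom.range : Subring (ResidueField V)) = ⊤ := top_unique fun z _ => by
        obtain ⟨y, rfl⟩ := residue_surjective (R := V) z
        rcases eq_or_ne (residue V y) 0 with h0 | h0
        · rw [h0]; exact Subring.zero_mem _
        have hy1 : v (y : L) = 1 := le_antisymm ((ValuationSubring.valuation_le_one_iff V _).2 y.2)
          (not_lt.1 fun hlt => h0 ((residue_eq_zero_iff _).2
            ((ValuationSubring.valuation_lt_one_iff V y).2 hlt)))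
        obtain ⟨m, k, s, t, hs, ht, he⟩ := hfrac (y : L) (fun h' => by simp [h'] at hy1)
        have hmk := hv _ m k s t hs ht he
        rw [hy1, one_mul] at hmk
        have hkm : k = m := pow_right_injective₀ (zero_lt_iff.2 hvξ0) hvξ.ne hmk
        subst hkm
        have hys : y * ι s = ι t := Subtype.ext (mul_left_cancel₀ (pow_ne_zero k hxi0)
          ((mul_left_comm _ _ _).trans he))
        have hfs : f s ≠ 0 := fun h' => hs ((residue_eq_zero_iff _).1 h')
        have hqmax : q.IsMaximal :=
          Ideal.isMaximal_of_isIntegral_of_isMaximal_comap q (hqR.symm ▸ maximalIdeal.isMaximal R)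
        have hinv : (f s)⁻¹ ∈ f.toRingHom.range := by
          obtain ⟨w, i, hi, hwi⟩ := hqmax.exists_inv hs
          refine ⟨w, eq_inv_of_mul_eq_one_left ?_⟩
          have hi0 : f i = 0 := (residue_eq_zero_iff _).2 hi
          have := congrArg f hwi
          rw [map_add, map_mul, map_one, hi0, add_zero] at this
          exact this
        have : residue V y = f t * (f s)⁻¹ := by
          rw [eq_mul_inv_iff_mul_eq₀ hfs]
          exact (map_mul (residue V) y (ι s)).symm.trans (congrArg (residue V) hys)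
        rw [this]
        exact mul_mem ⟨t, rfl⟩ hinv
      exact RingHom.range_eq_top.1 hfin
    have h0 : f (xC i₀) = 0 := (residue_eq_zero_iff _).2 hξq
    have : Algebra.FormallyUnramified (ResidueField R) (ResidueField V) :=
      formallyUnramified_residue xC c n i₀ f hf h0 hgenC hn1 hnu hc hxC
    have : Module.Finite R (ResidueField V) := Module.Finite.of_surjective f.toLinearMap hf
    have : Module.Finite (ResidueField R) (ResidueField V) :=
      Module.Finite.of_restrictScalars_finite R _ _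
    exact Algebra.FormallyUnramified.isSeparable _ _
  · have hmap : (maximalIdeal R).map (algebraMap R V) = maximalIdeal V ^ n i₀ := by
      rw [hπ, Ideal.map_span, Set.image_singleton, hmV, Ideal.span_singleton_pow]
      congr 2
      exact Subtype.ext ((hci ▸ hx i₀).symm)
    have he : Ideal.ramificationIdx' (maximalIdeal R) (maximalIdeal V) = n i₀ := by
      refine Ideal.ramificationIdx'_spec hmap.le fun hle => ?_
      rw [hmap, hmV, Ideal.span_singleton_pow, Ideal.span_singleton_pow,
        Ideal.span_singleton_le_span_singleton] at hle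
      obtain ⟨w, hw⟩ := hle
      have hw' := congrArg (fun z : V => v (z : L)) hw
      simp only [xi, MulMemClass.coe_mul, SubmonoidClass.coe_pow, map_mul, map_pow] at hw'
      have hw1 : v (w : L) ≤ 1 := (ValuationSubring.valuation_le_one_iff V _).2 w.2
      have : v (x i₀) ^ n i₀ ≤ v (x i₀) ^ (n i₀ + 1) := hw'.le.trans (mul_le_of_le_one_right' hw1)
      exact absurd this (not_le.2 (pow_lt_pow_right_of_lt_one₀ (zero_lt_iff.2 hvξ0) hvξ (Nat.lt_succ_self _)))
    rw [he] at hdvd
    have : ((n i₀ : ℕ) : ResidueField R) = 0 := (CharP.cast_eq_zero_iff _ p _).2 hdvd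
    exact ((hnu i₀).map (residue R)).ne_zero (by simpa using this)

end Groth.Agent.Lib.Kummer.Tame
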