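import Groth.Agent.Lib.Regular.Indep
import Groth.Agent.Lib.Dim.Integral
import Mathlib.Dynamics.Newton
import Mathlib.RingTheory.Etale.Basic
import Mathlib.FieldTheory.IsAlgClosed.AlgebraicClosure
import Mathlib.RingTheory.FinitePresentation

/-!
The algebras `A[T_i]/(T_i ^ n_i - f_i)`.
-/

universe u v

namespace Groth.Agent.Lib.Kummer.Alg

open MvPolynomial

variable {A : Type u} [CommRing A] {σ : Type v} (f : σ → A) (n : σ → ℕ)

/-- The ideal of relations. -/
noncomputable abbrev rels : Ideal (MvPolynomial σ A) :=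
  Ideal.span (Set.range fun i => (X i : MvPolynomial σ A) ^ n i - C (f i))

/-- The algebra `A[T_i]/(T_i ^ n_i - f_i)`. -/
abbrev K : Type _ := MvPolynomial σ A ⧸ rels f n

/-- The class of `T_i`. -/
noncomputable def t (i : σ) : K f n := Ideal.Quotient.mk _ (X i)

theorem t_pow (i : σ) : t f n i ^ n i = algebraMap A (K f n) (f i) := by
  rw [t, ← map_pow]
  exact Ideal.Quotient.eq.2 (Ideal.subset_span ⟨i, rfl⟩)

/-- The universal property. -/
noncomputable def desc {C : Type*} [CommRing C] [Algebra A C] (c : σ → C)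
    (hc : ∀ i, c i ^ n i = algebraMap A C (f i)) : K f n →ₐ[A] C :=
  Ideal.Quotient.liftₐ _ (aeval c) (fun a ha => by
    have : rels f n ≤ RingHom.ker (aeval c : MvPolynomial σ A →ₐ[A] C) := Ideal.span_le.2 (by
      rintro _ ⟨i, rfl⟩
      simp [RingHom.mem_ker, hc])
    exact this ha)

@[simp] theorem desc_t {C : Type*} [CommRing C] [Algebra A C] (c : σ → C)
    (hc : ∀ i, c i ^ n i = algebraMap A C (f i)) (i : σ) : desc f n c hc (t f n i) = c i := by
  simp [desc, t]

theorem algHom_ext {C : Type*} [CommRing C] [Algebra A C] {φ ψ : K f n →ₐ[A] C}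
    (h : ∀ i, φ (t f n i) = ψ (t f n i)) : φ = ψ :=
  Ideal.Quotient.algHom_ext A (MvPolynomial.algHom_ext h)

theorem adjoin_eq_top : Algebra.adjoin A (Set.range (t f n)) = ⊤ := by
  have h := congrArg (Subalgebra.map (Ideal.Quotient.mkₐ A (rels f n)))
    (MvPolynomial.adjoin_range_X (R := A) (σ := σ))
  rw [AlgHom.map_adjoin, ← Set.range_comp, Algebra.map_top,
    (AlgHom.range_eq_top _).2 (Ideal.Quotient.mkₐ_surjective A _)] at h
  exact h

theorem isIntegral (hn : ∀ i, 1 ≤ n i) : Algebra.IsIntegral A (K f n) := by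
  refine ⟨fun x => ?_⟩
  have hle : Algebra.adjoin A (Set.range (t f n)) ≤ integralClosure A (K f n) := by
    refine Algebra.adjoin_le ?_
    rintro _ ⟨i, rfl⟩
    exact IsIntegral.of_pow (hn i) (t_pow f n i ▸ isIntegral_algebraMap)
  exact hle (adjoin_eq_top f n ▸ Algebra.mem_top)

theorem moduleFinite [Finite σ] (hn : ∀ i, 1 ≤ n i) : Module.Finite A (K f n) :=
  have := isIntegral f n hn
  Algebra.IsIntegral.finite

theorem algebraMap_injective [IsDomain A] (hn : ∀ i, 1 ≤ n i) :
    Function.Injective (algebraMap A (K f n)) := by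
  let Ω := AlgebraicClosure (FractionRing A)
  have hc : ∀ i, ∃ c : Ω, c ^ n i = algebraMap A Ω (f i) := fun i =>
    IsAlgClosed.exists_pow_nat_eq _ (hn i)
  choose c hc using hc
  refine Function.Injective.of_comp (f := desc f n c hc) ?_
  have h : (desc f n c hc : K f n → Ω) ∘ algebraMap A (K f n) = algebraMap A Ω :=
    funext fun a => (desc f n c hc).commutes a
  rw [h, IsScalarTower.algebraMap_eq A (FractionRing A) Ω, RingHom.coe_comp]
  exact (algebraMap (FractionRing A) Ω).injective.comp (IsFractionRing.injective A (FractionRing A))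

section Local

open IsLocalRing

variable [IsLocalRing A]

theorem mem_of_isMaximal (hn : ∀ i, 1 ≤ n i) (hf : ∀ i, f i ∈ maximalIdeal A)
    (M : Ideal (K f n)) [M.IsMaximal] :
    (maximalIdeal A).map (algebraMap A (K f n)) ⊔ Ideal.span (Set.range (t f n)) ≤ M := by
  have := isIntegral f n hn
  have h : M.comap (algebraMap A (K f n)) = maximalIdeal A :=
    IsLocalRing.eq_maximalIdeal (Ideal.isMaximal_comap_of_isIntegral_of_isMaximal M)
  refine sup_le (Ideal.map_le_iff_le_comap.2 h.ge) (Ideal.span_le.2 ?_)
  rintro _ ⟨i, rfl⟩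
  refine Ideal.IsPrime.mem_of_pow_mem inferInstance (n i) ?_
  rw [t_pow]
  exact h.ge (hf i)

theorem isLocalRing_and_maximalIdeal (hn : ∀ i, 1 ≤ n i) (hf : ∀ i, f i ∈ maximalIdeal A) :
    ∃ _ : IsLocalRing (K f n), maximalIdeal (K f n) =
      (maximalIdeal A).map (algebraMap A (K f n)) ⊔ Ideal.span (Set.range (t f n)) := by
  let res : K f n →ₐ[A] ResidueField A := desc f n (fun _ => 0) fun i => by
    rw [zero_pow (by have := hn i; omega)]
    exact ((residue_eq_zero_iff _).2 (hf i)).symm
  have : Nontrivial (K f n) := res.toRingHom.domain_nontrivial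
  let I := (maximalIdeal A).map (algebraMap A (K f n)) ⊔ Ideal.span (Set.range (t f n))
  have hsurj : Function.Surjective res := fun z => by
    obtain ⟨a, rfl⟩ := residue_surjective (R := A) z
    exact ⟨algebraMap A _ a, res.commutes a⟩
  have hmax : (RingHom.ker res).IsMaximal := RingHom.ker_isMaximal_of_surjective res hsurj
  have hker : RingHom.ker res ≤ I := by
    intro x hx
    have hx' : x ∈ Algebra.adjoin A (Set.range (t f n)) := adjoin_eq_top f n ▸ Algebra.mem_top
    have key : ∀ x ∈ Algebra.adjoin A (Set.range (t f n)),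
        ∃ a : A, x - algebraMap A _ a ∈ I := by
      intro x hx
      induction hx using Algebra.adjoin_induction with
      | mem y hy => exact ⟨0, by
          simpa using Ideal.mem_sup_right (Ideal.subset_span hy)⟩
      | algebraMap a => exact ⟨a, by simp⟩
      | add y z _ _ hy hz =>
        obtain ⟨a, ha⟩ := hy
        obtain ⟨b, hb⟩ := hz
        exact ⟨a + b, by rw [map_add, add_sub_add_comm]; exact add_mem ha hb⟩
      | mul y z _ _ hy hz =>
        obtain ⟨a, ha⟩ := hy
        obtain ⟨b, hb⟩ := hz
        refine ⟨a * b, ?_⟩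
        have : y * z - algebraMap A _ (a * b) =
            (y - algebraMap A _ a) * z + algebraMap A _ a * (z - algebraMap A _ b) := by
          rw [map_mul]; ring
        rw [this]
        exact add_mem (Ideal.mul_mem_right _ _ ha) (Ideal.mul_mem_left _ _ hb)
    obtain ⟨a, ha⟩ := key x hx'
    have hI : I ≤ RingHom.ker res := mem_of_isMaximal f n hn hf _
    have ha' : a ∈ maximalIdeal A := by
      rw [← residue_eq_zero_iff]
      have := hI ha
      rw [RingHom.mem_ker, map_sub, RingHom.mem_ker.1 hx, zero_sub, neg_eq_zero,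
        AlgHom.commutes] at this
      exact this
    have := add_mem ha (Ideal.mem_sup_left (Ideal.mem_map_of_mem _ ha') : algebraMap A _ a ∈ I)
    rwa [sub_add_cancel] at this
  have huniq : ∀ M : Ideal (K f n), M.IsMaximal → M = RingHom.ker res := fun M hM =>
    (hmax.eq_of_le hM.ne_top (hker.trans (mem_of_isMaximal f n hn hf M))).symm
  have : IsLocalRing (K f n) := .of_unique_max_ideal ⟨_, hmax, huniq⟩
  refine ⟨this, ?_⟩
  rw [huniq (maximalIdeal _) inferInstance]
  exact le_antisymm hker (mem_of_isMaximal f n hn hf _)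

end Local

open IsLocalRing in
theorem isRegularLocalRing [IsRegularLocalRing A] [Finite σ] (hn : ∀ i, 1 ≤ n i)
    (hf : ∀ i, f i ∈ maximalIdeal A)
    (hli : LinearIndependent (ResidueField A) fun i => (maximalIdeal A).toCotangent ⟨f i, hf i⟩) :
    IsRegularLocalRing (K f n) := by
  classical
  have := Fintype.ofFinite σ
  have := Regular.Quotient.isDomain A
  have := isIntegral f n hn
  have := moduleFinite f n hn
  have : IsNoetherianRing (K f n) := IsNoetherianRing.of_finite A _
  obtain ⟨this, hmax⟩ := isLocalRing_and_maximalIdeal f n hn hf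
  refine IsRegularLocalRing.of_spanFinrank_maximalIdeal_le _ ?_
  have : FaithfulSMul A (K f n) :=
    (faithfulSMul_iff_algebraMap_injective _ _).2 (algebraMap_injective f n hn)
  rw [Dim.Integral.ringKrullDim_eq_of_isIntegral (R := A),
    ← IsRegularLocalRing.spanFinrank_maximalIdeal (R := A)]
  let e := (Fintype.equivFin σ).symm
  obtain ⟨T, hT, hcard⟩ := Regular.Indep.exists_gens_extend (fun j => ⟨f (e j), hf (e j)⟩)
    (hli.comp e e.injective)
  let S : Finset (K f n) := Finset.univ.image (t f n) ∪ T.image (algebraMap A (K f n))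
  have hS : maximalIdeal (K f n) ≤ Ideal.span (S : Set (K f n)) := by
    rw [hmax]
    refine sup_le ?_ (Ideal.span_mono (by simp [S]))
    rw [← hT, Ideal.map_span]
    refine Ideal.span_le.2 ?_
    rintro _ ⟨a, ha, rfl⟩
    simp only [Finset.coe_union, Finset.coe_image, Finset.coe_univ, Set.image_univ,
      Set.mem_union, Set.mem_range, Finset.mem_coe] at ha
    rcases ha with ⟨j, rfl⟩ | ha
    · rw [← t_pow, SetLike.mem_coe]
      refine Ideal.pow_mem_of_mem _ (Ideal.subset_span ?_) _ (hn _)
      simp [S]
    · exact Ideal.subset_span (by simp only [S, Finset.coe_union, Finset.coe_image]; exact Or.inr ⟨a, ha, rfl⟩)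
  have hS' : Ideal.span (S : Set (K f n)) = maximalIdeal (K f n) := by
    refine le_antisymm (Ideal.span_le.2 ?_) hS
    rw [hmax]
    intro x hx
    simp only [S, Finset.coe_union, Finset.coe_image, Finset.coe_univ, Set.image_univ] at hx
    rcases hx with hx | ⟨a, ha, rfl⟩
    · exact Ideal.mem_sup_right (Ideal.subset_span hx)
    · refine Ideal.mem_sup_left (Ideal.mem_map_of_mem _ ?_)
      rw [← hT]
      exact Ideal.subset_span (by simpa using Or.inr ha)
  have h1 : (maximalIdeal (K f n)).spanFinrank ≤ Fintype.card σ + T.card := by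
    rw [← hS']
    refine (Submodule.spanFinrank_span_le_ncard_of_finite S.finite_toSet).trans ?_
    rw [Set.ncard_coe_finset]
    exact (Finset.card_union_le _ _).trans (add_le_add (Finset.card_image_le.trans (by simp))
      Finset.card_image_le)
  rw [hcard] at h1
  exact_mod_cast h1

section Etale

variable [Finite σ] (g : A) (A' : Type*) [CommRing A'] [Algebra A A'] [IsLocalization.Away g A']
  (B' : Type*) [CommRing B'] [Algebra (K f n) B'] [Algebra A B'] [IsScalarTower A (K f n) B']
  [IsLocalization.Away (algebraMap A (K f n) g) B'] [Algebra A' B'] [IsScalarTower A A' B']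

include g in
open Polynomial in
theorem formallyEtale (hn : ∀ i, IsUnit (algebraMap A A' (n i : A)))
    (hf : ∀ i, IsUnit (algebraMap A A' (f i))) (hn1 : ∀ i, 1 ≤ n i) :
    Algebra.FormallyEtale A' B' := by
  rw [Algebra.FormallyEtale.iff_comp_bijective]
  intro C _ _ I hI
  let _ : Algebra A C := Algebra.compHom C (algebraMap A A')
  have : IsScalarTower A A' C := .of_algebraMap_eq' rfl
  let t' : σ → B' := fun i => algebraMap (K f n) B' (t f n i)
  have ht' : ∀ i, t' i ^ n i = algebraMap A' B' (algebraMap A A' (f i)) := fun i => by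
    rw [← map_pow, t_pow, ← IsScalarTower.algebraMap_apply, ← IsScalarTower.algebraMap_apply]
  -- a morphism is determined by the roots
  have hext : ∀ (D : Type _) [CommRing D] [Algebra A' D] (φ ψ : B' →ₐ[A'] D),
      (∀ i, φ (t' i) = ψ (t' i)) → φ = ψ := by
    intro D _ _ φ ψ h
    let _ : Algebra A D := Algebra.compHom D (algebraMap A A')
    have : IsScalarTower A A' D := .of_algebraMap_eq' rfl
    have hK : (φ.restrictScalars A).comp (IsScalarTower.toAlgHom A (K f n) B') =
        (ψ.restrictScalars A).comp (IsScalarTower.toAlgHom A (K f n) B') := algHom_ext f n h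
    exact AlgHom.coe_ringHom_injective (IsLocalization.ringHom_ext
      (Submonoid.powers (algebraMap A (K f n) g))
      (RingHom.ext fun x => DFunLike.congr_fun hK x))
  have hnil : ∀ x ∈ I, IsNilpotent x := fun x hx => ⟨2, by
    rw [pow_two, ← Ideal.mem_bot, ← hI, pow_two]
    exact Ideal.mul_mem_mul hx hx⟩
  have hroot : ∀ (i : σ) (c₀ : C), IsUnit (algebraMap A C (f i)) →
      c₀ ^ n i - algebraMap A C (f i) ∈ I →
      ∃! r : C, IsNilpotent (c₀ - r) ∧
        aeval r (Polynomial.X ^ n i - Polynomial.C (f i) : A[X]) = 0 := by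
    intro i c₀ hu hmem
    refine existsUnique_nilpotent_sub_and_aeval_eq_zero (hnil _ (by simpa using hmem)) ?_
    simp only [derivative_sub, derivative_X_pow, derivative_C, sub_zero, map_mul,
      Polynomial.aeval_C, map_pow, Polynomial.aeval_X]
    refine IsUnit.mul ?_ (IsUnit.pow _ ?_)
    · rw [IsScalarTower.algebraMap_apply A A' C]
      exact (hn i).map _
    · have : IsUnit (c₀ ^ n i) := by
        have := (hnil _ hmem).isUnit_add_left_of_commute hu (Commute.all _ _)
        simpa using this
      exact (isUnit_pow_iff (by have := hn1 i; omega)).1 this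
  have huC : ∀ i, IsUnit (algebraMap A C (f i)) := fun i => by
    rw [IsScalarTower.algebraMap_apply A A' C]; exact (hf i).map _
  constructor
  · intro φ ψ h
    refine hext C φ ψ fun i => ?_
    have hIm : φ (t' i) - ψ (t' i) ∈ I := by
      rw [← Ideal.Quotient.eq]
      exact DFunLike.congr_fun h (t' i)
    have hφ : ∀ χ : B' →ₐ[A'] C, χ (t' i) ^ n i = algebraMap A C (f i) := fun χ => by
      rw [← map_pow, ht', AlgHom.commutes, ← IsScalarTower.algebraMap_apply]
    refine ((hroot i (φ (t' i)) (huC i) (by simp [hφ])).unique ⟨?_, ?_⟩ ⟨hnil _ hIm, ?_⟩)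
    · simp
    · simp [hφ]
    · simp [hφ]
  · intro ψ
    have hψ : ∀ i, ∃ c : C, c ^ n i = algebraMap A C (f i) ∧ Ideal.Quotient.mk I c = ψ (t' i) := by
      intro i
      obtain ⟨c₀, hc₀⟩ := Ideal.Quotient.mk_surjective (ψ (t' i))
      have hmem : c₀ ^ n i - algebraMap A C (f i) ∈ I := by
        rw [← Ideal.Quotient.eq, map_pow, hc₀, ← map_pow, ht', AlgHom.commutes,
          IsScalarTower.algebraMap_apply A A' C]
        rfl
      obtain ⟨r, ⟨hr1, hr2⟩, hruniq⟩ := hroot i c₀ (huC i) hmem
      -- in `C ⧸ I` the root is unique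
      refine ⟨r, by simpa [sub_eq_zero] using hr2, ?_⟩
      rw [← hc₀]
      have hu : IsUnit (Ideal.Quotient.mk I (algebraMap A C (n i : A) * c₀ ^ (n i - 1))) := by
        refine IsUnit.map _ (IsUnit.mul ?_ (IsUnit.pow _ ?_))
        · rw [IsScalarTower.algebraMap_apply A A' C]; exact (hn i).map _
        · have : IsUnit (c₀ ^ n i) := by
            have := (hnil _ hmem).isUnit_add_left_of_commute (huC i) (Commute.all _ _)
            simpa using this
          exact (isUnit_pow_iff (by have := hn1 i; omega)).1 this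
      refine (existsUnique_nilpotent_sub_and_aeval_eq_zero (x := Ideal.Quotient.mk I c₀)
        (P := (Polynomial.X ^ n i - Polynomial.C (f i) : A[X])) ?_ ?_).unique ⟨?_, ?_⟩ ⟨?_, ?_⟩
      · rw [← Ideal.Quotient.mkₐ_eq_mk A, Polynomial.aeval_algHom_apply]
        refine IsNilpotent.map (hnil _ (by simpa using hmem)) _
      · rw [← Ideal.Quotient.mkₐ_eq_mk A, Polynomial.aeval_algHom_apply]
        simpa [derivative_X_pow] using hu
      · rw [← map_sub]; exact hr1.map _
      · rw [← Ideal.Quotient.mkₐ_eq_mk A, Polynomial.aeval_algHom_apply, hr2, map_zero]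
      · simp
      · rw [← Ideal.Quotient.mkₐ_eq_mk A, Polynomial.aeval_algHom_apply, Ideal.Quotient.mkₐ_eq_mk,
          Ideal.Quotient.eq_zero_iff_mem]
        simpa using hmem
    choose c hc hcψ using hψ
    let φ₀ : K f n →ₐ[A] C := desc f n c hc
    have hunit : ∀ y : Submonoid.powers (algebraMap A (K f n) g), IsUnit (φ₀ y) := by
      rintro ⟨_, k, rfl⟩
      simp only [map_pow, AlgHom.commutes]
      refine IsUnit.pow _ ?_
      rw [IsScalarTower.algebraMap_apply A A' C]
      exact (IsLocalization.Away.algebraMap_isUnit g).map _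
    let φ₁ : B' →+* C := IsLocalization.lift (g := φ₀.toRingHom) hunit
    have hφ₁ : ∀ x, φ₁ (algebraMap (K f n) B' x) = φ₀ x := fun x => IsLocalization.lift_eq hunit x
    let φ : B' →ₐ[A'] C :=
      { φ₁ with
        commutes' := fun x => by
          refine RingHom.congr_fun (IsLocalization.ringHom_ext (Submonoid.powers g) ?_ :
            φ₁.comp (algebraMap A' B') = algebraMap A' C) x
          ext a
          simp only [RingHom.coe_comp, Function.comp_apply,
            ← IsScalarTower.algebraMap_apply A A' B', ← IsScalarTower.algebraMap_apply A A' C]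
          rw [IsScalarTower.algebraMap_apply A (K f n) B', hφ₁, AlgHom.commutes] }
    exact ⟨φ, hext _ _ _ fun i => by
      show Ideal.Quotient.mk I (φ₁ (algebraMap (K f n) B' (t f n i))) = _
      rw [hφ₁, desc_t, hcψ]⟩

include g in
theorem etale [IsNoetherianRing A] (hn : ∀ i, IsUnit (algebraMap A A' (n i : A)))
    (hf : ∀ i, IsUnit (algebraMap A A' (f i))) (hn1 : ∀ i, 1 ≤ n i) : Algebra.Etale A' B' := by
  have := formallyEtale f n g A' B' hn hf hn1
  have : IsNoetherianRing A' := IsLocalization.isNoetherianRing (Submonoid.powers g) _ inferInstance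
  have : Algebra.FiniteType A (K f n) := inferInstance
  have : Algebra.FiniteType (K f n) B' :=
    have := IsLocalization.Away.finitePresentation (S := B') (algebraMap A (K f n) g)
    inferInstance
  have : Algebra.FiniteType A B' := Algebra.FiniteType.trans (S := K f n) ‹_› ‹_›
  have : Algebra.FiniteType A' B' := Algebra.FiniteType.of_restrictScalars_finiteType A A' B'
  exact { formallyEtale := inferInstance, finitePresentation := Algebra.FinitePresentation.of_finiteType.1 this }

end Etale

end Groth.Agent.Lib.Kummer.Alg
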